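import Groth.Agent.KoszulLib.FlatKinds
import Groth.Agent.KoszulLib.SchImm
import Groth.Prelude.Def_Mor2
import Groth.Prelude.Def_RegImm
import Mathlib

/-!
Regular closed immersions: comparison with regular immersions, composition, flat base change.
-/

set_option autoImplicit false
set_option linter.style.haveILetI false
set_option maxHeartbeats 1000000
universe u

open CategoryTheory Limits AlgebraicGeometry RingTheory.Sequence

namespace Groth.Agent.RegMor2

open Groth.Agent.KoszulLib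

variable {X Y Z : Scheme.{u}}

/-- Cut out by a weakly regular sequence on `U`. -/
def WSeqOn (i : Y ⟶ X) (U : X.affineOpens) : Prop :=
  IsClosedImmersion (i ∣_ U.1) ∧ ∃ rs : List Γ(X, U.1), IsWeaklyRegular Γ(X, U.1) rs ∧
    RingHom.ker (i.app U.1).hom = Ideal.ofList rs

theorem exists_wSeqOn {i : Y ⟶ X} (hi : Mor2.IsRegularClosedImmersion i) (y : Y) :
    ∃ U : X.affineOpens, i y ∈ U.1 ∧ WSeqOn i U := by
  haveI := hi.1
  obtain ⟨U, hU, hy, rs, hrs, hker⟩ := hi.2 y
  refine ⟨⟨U, hU⟩, hy, MorphismProperty.of_isPullback (isPullback_morphismRestrict i U).flip hi.1,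
    rs, hrs.toIsWeaklyRegular, ?_⟩
  rw [← Scheme.Hom.ker_apply i ⟨U, hU⟩]
  exact hker

theorem isRegularClosedImmersion_of {i : Y ⟶ X} [IsClosedImmersion i]
    (h : ∀ y : Y, ∃ U : X.affineOpens, i y ∈ U.1 ∧ WSeqOn i U) : Mor2.IsRegularClosedImmersion i := by
  refine ⟨inferInstance, fun y => ?_⟩
  obtain ⟨U, hy, hc, rs, hrs, hker⟩ := h y
  refine ⟨U.1, U.2, hy, rs, ⟨hrs, fun htop => ?_⟩, (Scheme.Hom.ker_apply i U).trans hker⟩
  rw [smul_eq_mul, Ideal.mul_top, ← hker] at htop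
  have h1 : (1 : Γ(X, U.1)) ∈ RingHom.ker (i.app U.1).hom := htop ▸ Submodule.mem_top
  rw [RingHom.mem_ker, map_one] at h1
  have := congrArg (Y.presheaf.germ (i ⁻¹ᵁ U.1) y hy).hom h1
  rw [map_one, map_zero] at this
  exact one_ne_zero this

theorem isRegularImmersion_iff {i : Y ⟶ X} [IsClosedImmersion i] :
    RegImm.IsRegularImmersion .regular i ↔ Mor2.IsRegularClosedImmersion i := by
  constructor
  · intro h
    refine isRegularClosedImmersion_of fun y => ?_
    obtain ⟨U, hy, hc, rs, hrs, hker⟩ := h.2 y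
    exact ⟨U, hy, hc, rs, hrs.toIsWeaklyRegular, hker⟩
  · intro h
    refine ⟨inferInstance, fun y => ?_⟩
    obtain ⟨U, hU, hy, rs, hrs, hker⟩ := h.2 y
    exact ⟨⟨U, hU⟩, hy, MorphismProperty.of_isPullback (isPullback_morphismRestrict i U).flip h.1, rs, hrs,
      (Scheme.Hom.ker_apply i ⟨U, hU⟩).symm.trans hker⟩

theorem WSeqOn.mono {i : Y ⟶ X} {U : X.affineOpens} (h : WSeqOn i U) (W : X.affineOpens) (e : W.1 ≤ U.1) :
    WSeqOn i W := by
  obtain ⟨hc, rs, hrs, hker⟩ := h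
  obtain ⟨hcW, hkerW⟩ := ker_app_of_le i U hc W e
  have hflat : ((𝟙 X : X ⟶ X).appLE U.1 W.1 e).hom.Flat := HasRingHomProperty.appLE @Flat (𝟙 X) inferInstance U W e
  have halg : X.presheaf.map (homOfLE e).op = (𝟙 X : X ⟶ X).appLE U.1 W.1 e := by
    simp [Scheme.Hom.appLE]
    exact (Category.id_comp _).symm
  rw [← halg] at hflat
  letI : Algebra Γ(X, U.1) Γ(X, W.1) := (X.presheaf.map (homOfLE e).op).hom.toAlgebra
  haveI : Module.Flat Γ(X, U.1) Γ(X, W.1) := hflat
  refine ⟨hcW, rs.map (algebraMap Γ(X, U.1) Γ(X, W.1)), hrs.of_flat, ?_⟩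
  rw [hkerW, hker, Ideal.map_ofList]
  rfl

/-- The composite is cut out by the concatenated sequence. -/
theorem exists_wSeqOn_comp {i : Y ⟶ X} {j : Z ⟶ Y} {U : X.affineOpens} {V : Y.affineOpens}
    (hi : WSeqOn i U) (hj : WSeqOn j V) (z : Z) (hzU : i (j z) ∈ U.1) (hzV : j z ∈ V.1) :
    ∃ W : X.affineOpens, (j ≫ i) z ∈ W.1 ∧ WSeqOn (j ≫ i) W := by
  have hY := isAffineOpen_preimage i hi.1
  obtain ⟨s, hs, hzs⟩ := hY.exists_basicOpen_le (V := V.1) ⟨j z, hzV⟩ hzU
  obtain ⟨t, rfl⟩ := app_surjective i hi.1 s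
  let W : X.affineOpens := X.affineBasicOpen t
  have hiW := hi.mono W (X.basicOpen_le t)
  have hpre : i ⁻¹ᵁ W.1 ≤ V.1 := (Scheme.preimage_basicOpen i t).le.trans hs
  let W' : Y.affineOpens := ⟨i ⁻¹ᵁ W.1, isAffineOpen_preimage i hiW.1⟩
  obtain ⟨hcj, k', hk', hkerj⟩ := hj.mono W' hpre
  obtain ⟨hci, f, hf, hkeri⟩ := hiW
  refine ⟨W, ?_, ?_, ?_⟩
  · show j z ∈ i ⁻¹ᵁ X.basicOpen t
    rw [Scheme.preimage_basicOpen]
    exact hzs
  · rw [morphismRestrict_comp]
    exact MorphismProperty.comp_mem _ _ _ hcj hci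
  · let π := (i.app W.1).hom
    have hπ : Function.Surjective π := app_surjective i hci
    let σ := Function.surjInv hπ
    have hσ : ∀ y, π (σ y) = y := Function.surjInv_eq hπ
    have hmap : (k'.map σ).map π = k' := by
      rw [List.map_map]
      exact (List.map_congr_left fun y _ => hσ y).trans (List.map_id _)
    refine ⟨f ++ k'.map σ, (isWeaklyRegular_append_iff' _ _ _).2 ⟨hf, ?_⟩, ?_⟩
    · let e₀ : (Γ(X, W.1) ⧸ Ideal.ofList f) ≃+* Γ(Y, W'.1) :=
        (Ideal.quotEquivOfEq hkeri.symm).trans (RingHom.quotientKerEquivOfSurjective hπ)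
      let e : (Γ(X, W.1) ⧸ (Ideal.ofList f • ⊤ : Submodule Γ(X, W.1) Γ(X, W.1))) ≃+ Γ(Y, W'.1) :=
        (Submodule.quotEquivOfEq _ _ (by rw [smul_eq_mul, Ideal.mul_top])).toAddEquiv.trans e₀.toAddEquiv
      refine (e.isWeaklyRegular_congr ?_).2 hk'
      rw [List.map_map, List.forall₂_map_left_iff, List.forall₂_same]
      intro r _ x
      obtain ⟨x, rfl⟩ := Submodule.Quotient.mk_surjective _ x
      show π (σ r * x) = r * π x
      rw [map_mul, hσ]
    · have happ : RingHom.ker ((j ≫ i).app W.1).hom = (RingHom.ker (j.app W'.1).hom).comap π := by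
        ext x; simp [RingHom.mem_ker, π, W']
        rfl
      have hk : Ideal.ofList k' = (Ideal.ofList (k'.map σ)).map π := by rw [Ideal.map_ofList, hmap]
      rw [happ, hkerj, Ideal.ofList_append, hk, Ideal.comap_map_of_surjective' π hπ, sup_comm]
      exact congrArg (· ⊔ _) hkeri

theorem comp {i : Y ⟶ X} {j : Z ⟶ Y} (hi : Mor2.IsRegularClosedImmersion i)
    (hj : Mor2.IsRegularClosedImmersion j) : Mor2.IsRegularClosedImmersion (j ≫ i) := by
  haveI := hi.1
  haveI := hj.1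
  refine isRegularClosedImmersion_of fun z => ?_
  obtain ⟨U, hzU, hU⟩ := exists_wSeqOn hi (j z)
  obtain ⟨V, hzV, hV⟩ := exists_wSeqOn hj z
  exact exists_wSeqOn_comp hU hV z hzU hzV

theorem of_isPullback {X' Y' : Scheme.{u}} {i : Y ⟶ X} {g : X' ⟶ X} {i' : Y' ⟶ X'} {g' : Y' ⟶ Y} [Flat g]
    (hsq : IsPullback g' i' i g) (hi : Mor2.IsRegularClosedImmersion i) : Mor2.IsRegularClosedImmersion i' := by
  haveI := hi.1
  haveI : IsClosedImmersion i' := MorphismProperty.of_isPullback hsq hi.1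
  exact isRegularImmersion_iff.1
    (isRegularImmersion_kind_flat_baseChange .regular hsq (isRegularImmersion_iff.2 hi))

end Groth.Agent.RegMor2
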